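import Mathlib.Algebra.Homology.DerivedCategory.Ext.MapBijective

/-! `Ext` and adjunctions; `Ext` and natural transformations of exact functors. -/

set_option autoImplicit false
set_option linter.style.haveILetI false

universe w w' w'' v v' v'' u u' u''

open CategoryTheory CategoryTheory.Limits CategoryTheory.Abelian

namespace Groth.Agent.EtMV

noncomputable section

variable {C : Type u} [Category.{v} C] [Abelian C] [HasExt.{w} C]
variable {D : Type u'} [Category.{v'} D] [Abelian D] [HasExt.{w'} D]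

variable {L : D ⥤ C} {R : C ⥤ D} [R.Additive] [PreservesFiniteLimits R] [PreservesFiniteColimits R]
  (adj : L ⊣ R)

/-- The map `Ext^n (L A) F → Ext^n A (R F)`. -/
def Φ (A : D) (F : C) (n : ℕ) : Ext (L.obj A) F n →+ Ext A (R.obj F) n :=
  ((Ext.mk₀ (adj.unit.app A)).precomp (R.obj F) (zero_add n)).comp (R.mapExtAddHom (L.obj A) F n)

theorem Φ_apply (A : D) (F : C) (n : ℕ) (x : Ext (L.obj A) F n) :
    Φ adj A F n x = (Ext.mk₀ (adj.unit.app A)).comp (x.mapExactFunctor R) (zero_add n) := rfl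

theorem Φ_mk₀ (A : D) (F : C) (f : L.obj A ⟶ F) :
    Φ adj A F 0 (Ext.mk₀ f) = Ext.mk₀ (adj.homEquiv A F f) := by
  rw [Φ_apply, Ext.mapExactFunctor_mk₀, Ext.mk₀_comp_mk₀, Adjunction.homEquiv_unit]

theorem Φ_comp (A : D) {F G : C} {a b c : ℕ} (x : Ext (L.obj A) F a) (y : Ext F G b) (h : a + b = c) :
    Φ adj A G c (x.comp y h) = (Φ adj A F a x).comp (y.mapExactFunctor R) h := by
  rw [Φ_apply, Φ_apply, Ext.mapExactFunctor_comp, ← Ext.comp_assoc _ _ _ (zero_add a) h (by omega)]

attribute [local instance] Ext.subsingleton_of_injective in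
theorem Φ_bijective [EnoughInjectives C] [L.PreservesMonomorphisms] (A : D) (F : C) (n : ℕ) :
    Function.Bijective (Φ adj A F n) := by
  haveI : R.PreservesInjectiveObjects :=
    Functor.preservesInjectiveObjects_of_adjunction_of_preservesMonomorphisms adj
  induction n generalizing F with
  | zero =>
    constructor
    · intro x y h
      obtain ⟨f, rfl⟩ := (Ext.mk₀_bijective _ _).2 x
      obtain ⟨g, rfl⟩ := (Ext.mk₀_bijective _ _).2 y
      rw [Φ_mk₀, Φ_mk₀] at h
      rw [(adj.homEquiv A F).injective ((Ext.mk₀_bijective _ _).1 h)]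
    · intro y
      obtain ⟨g, rfl⟩ := (Ext.mk₀_bijective _ _).2 y
      exact ⟨Ext.mk₀ ((adj.homEquiv A F).symm g), by rw [Φ_mk₀, Equiv.apply_symm_apply]⟩
  | succ n hn =>
    let I : InjectivePresentation F := Classical.arbitrary _
    let S := ShortComplex.mk _ _ (cokernel.condition I.f)
    have : Injective (S.map R).X₂ := Functor.PreservesInjectiveObjects.injective_obj I.injective
    have hS : S.ShortExact := { exact := ShortComplex.exact_cokernel I.f }
    refine AddMonoidHom.bijective_of_surjective_of_bijective_of_right_exact _ _ _ _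
      (Φ adj A S.X₂ n) (Φ adj A S.X₃ n) (Φ adj A S.X₁ (n + 1)) ?_ ?_
      ((ShortComplex.ab_exact_iff_function_exact _).mp
        (Ext.covariant_sequence_exact₃' (L.obj A) hS n (n + 1) rfl))
      ((ShortComplex.ab_exact_iff_function_exact _).mp
        (Ext.covariant_sequence_exact₃' A (hS.map_of_exact R) n (n + 1) rfl))
      (hn _).surjective (hn _)
      (fun x₁ ↦ Ext.covariant_sequence_exact₁ _ hS x₁ (by subsingleton) rfl)
      (fun y₁ ↦ Ext.covariant_sequence_exact₁ _ (hS.map_of_exact R) y₁ (by subsingleton) rfl)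
    · ext x
      show _ = _
      simp only [AddCommGrpCat.hom_ofHom, AddMonoidHom.coe_comp, Function.comp_apply]
      show (Φ adj A S.X₂ n x).comp (Ext.mk₀ (R.map S.g)) (add_zero n) =
        Φ adj A S.X₃ n (x.comp (Ext.mk₀ S.g) (add_zero n))
      rw [Φ_comp, Ext.mapExactFunctor_mk₀]
    · ext x
      show (Φ adj A S.X₃ n x).comp (hS.map_of_exact R).extClass rfl =
        Φ adj A S.X₁ (n + 1) (x.comp hS.extClass rfl)
      rw [Φ_comp, Ext.mapExactFunctor_extClass]
      rfl

theorem mapExactFunctor_comp_extClass {S : ShortComplex C} (hS : S.ShortExact) {X : C} {n m : ℕ}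
    (x : Ext X S.X₃ n) (h : n + 1 = m) :
    (x.comp hS.extClass h).mapExactFunctor R = (x.mapExactFunctor R).comp (hS.map_of_exact R).extClass h := by
  rw [Ext.mapExactFunctor_comp, Ext.mapExactFunctor_extClass]
  rfl

variable {E : Type u''} [Category.{v''} E] [Abelian E] [HasExt.{w''} E]

attribute [local instance] Ext.subsingleton_of_injective in
theorem mapExactFunctor_natTrans [EnoughInjectives C] (G₁ : C ⥤ D) [G₁.Additive] [PreservesFiniteLimits G₁]
    [PreservesFiniteColimits G₁] (G₂ : D ⥤ E) [G₂.Additive] [PreservesFiniteLimits G₂]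
    [PreservesFiniteColimits G₂] (G₃ : C ⥤ E) [G₃.Additive] [PreservesFiniteLimits G₃]
    [PreservesFiniteColimits G₃] (θ : G₁ ⋙ G₂ ⟶ G₃) {X Y : C} {n : ℕ} (x : Ext X Y n) :
    ((x.mapExactFunctor G₁).mapExactFunctor G₂).comp (Ext.mk₀ (θ.app Y)) (add_zero n) =
      (Ext.mk₀ (θ.app X)).comp (x.mapExactFunctor G₃) (zero_add n) := by
  induction n generalizing Y with
  | zero =>
    obtain ⟨f, rfl⟩ := (Ext.mk₀_bijective _ _).2 x
    simp only [Ext.mapExactFunctor_mk₀, Ext.mk₀_comp_mk₀]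
    exact congrArg Ext.mk₀ (θ.naturality f)
  | succ n hn =>
    let I : InjectivePresentation Y := Classical.arbitrary _
    let S := ShortComplex.mk _ _ (cokernel.condition I.f)
    haveI : Injective S.X₂ := I.injective
    have hS : S.ShortExact := { exact := ShortComplex.exact_cokernel I.f }
    obtain ⟨x₃, hx₃⟩ := Ext.covariant_sequence_exact₁ X hS x (by subsingleton) rfl
    let φ : (S.map G₁).map G₂ ⟶ S.map G₃ :=
      { τ₁ := θ.app S.X₁
        τ₂ := θ.app S.X₂
        τ₃ := θ.app S.X₃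
        comm₁₂ := (θ.naturality S.f).symm
        comm₂₃ := (θ.naturality S.g).symm }
    have key : ((hS.map_of_exact G₁).map_of_exact G₂).extClass.comp (Ext.mk₀ (θ.app Y)) (add_zero 1) =
        (Ext.mk₀ (θ.app S.X₃)).comp (hS.map_of_exact G₃).extClass (zero_add 1) :=
      ShortComplex.ShortExact.extClass_naturality _ _ φ
    rw [← hx₃]
    rw [mapExactFunctor_comp_extClass (R := G₁) hS x₃ rfl, mapExactFunctor_comp_extClass (R := G₃) hS x₃ rfl]
    have e2 := mapExactFunctor_comp_extClass (R := G₂) (hS.map_of_exact G₁) (x₃.mapExactFunctor G₁) (rfl : n + 1 = n + 1)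
    erw [e2]
    erw [Ext.comp_assoc_of_third_deg_zero, key, ← Ext.comp_assoc_of_second_deg_zero, hn x₃]
    exact Ext.comp_assoc _ _ _ _ _ (by omega)

theorem shuffle {T A' B C' G' F' : E} (p : T ⟶ A') (q : A' ⟶ B) (r : B ⟶ C') {n : ℕ} (z : Ext B G' n)
    (s : G' ⟶ F') (z' : Ext C' F' n)
    (h : z.comp (Ext.mk₀ s) (add_zero n) = (Ext.mk₀ r).comp z' (zero_add n)) :
    ((Ext.mk₀ p).comp ((Ext.mk₀ q).comp z (zero_add n)) (zero_add n)).comp (Ext.mk₀ s) (add_zero n) =
      (Ext.mk₀ (p ≫ q ≫ r)).comp z' (zero_add n) := by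
  rw [Ext.comp_assoc_of_third_deg_zero, Ext.comp_assoc_of_third_deg_zero, h, Ext.mk₀_comp_mk₀_assoc,
    Ext.mk₀_comp_mk₀_assoc, Category.assoc]

theorem Φ_natTrans [EnoughInjectives C] (G₂ : D ⥤ E) [G₂.Additive] [PreservesFiniteLimits G₂]
    [PreservesFiniteColimits G₂] (G₃ : C ⥤ E) [G₃.Additive] [PreservesFiniteLimits G₃]
    [PreservesFiniteColimits G₃] (θ : R ⋙ G₂ ⟶ G₃) {A : D} {T : E} (p : T ⟶ G₂.obj A) {F : C} {n : ℕ}
    (y : Ext (L.obj A) F n) :
    ((Ext.mk₀ p).comp ((Φ adj A F n y).mapExactFunctor G₂) (zero_add n)).comp (Ext.mk₀ (θ.app F))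
        (add_zero n) =
      (Ext.mk₀ (p ≫ G₂.map (adj.unit.app A) ≫ θ.app (L.obj A))).comp (y.mapExactFunctor G₃)
        (zero_add n) := by
  rw [Φ_apply, Ext.mapExactFunctor_comp, Ext.mapExactFunctor_mk₀]
  exact shuffle p (G₂.map (adj.unit.app A)) (θ.app (L.obj A)) _ (θ.app F) _
    (mapExactFunctor_natTrans R G₂ G₃ θ y)

end

end Groth.Agent.EtMV
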