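import Groth.Prelude.Def_EtShriek2
import Groth.Prelude.Def_EtCore
import Mathlib.CategoryTheory.Limits.Shapes.Pullback.IsPullback.Basic
import Mathlib.CategoryTheory.Preadditive.Injective.Preserves
import Mathlib.CategoryTheory.Functor.KanExtension.Adjunction
import Mathlib.CategoryTheory.Sites.Pullback

/-! Extension by zero along open immersions in the small étale sites, on presheaves. -/

set_option autoImplicit false
set_option linter.style.haveILetI false
set_option backward.isDefEq.respectTransparency.types false
set_option backward.defeqAttrib.useBackward true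

universe u

open CategoryTheory CategoryTheory.Limits AlgebraicGeometry Opposite EtShriek

namespace Groth.Agent.EtMV

noncomputable section

variable {X U : Scheme.{u}} (j : U ⟶ X) [IsOpenImmersion j]

/-- An object of the small étale site of `X` lands in `U`. -/
def Lands (W : X.Etale) : Prop := ∃ g : W.left ⟶ U, g ≫ j = W.hom

theorem lands_compEtale (V : U.Etale) : Lands j ((compEtale j).obj V) := ⟨V.hom, rfl⟩

omit [IsOpenImmersion j] in
theorem lands_of_hom {W W' : X.Etale} (f : W ⟶ W') (h : Lands j W') : Lands j W := by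
  obtain ⟨g, hg⟩ := h
  exact ⟨f.left ≫ g, by rw [Category.assoc, hg]; exact MorphismProperty.Over.w f⟩

theorem exists_iso_of_lands {W : X.Etale} (h : Lands j W) :
    ∃ V : U.Etale, Nonempty ((compEtale j).obj V ≅ W) := by
  obtain ⟨g, hg⟩ := h
  haveI : Etale (g ≫ j) := by rw [hg]; exact W.prop
  haveI : Etale g := Etale.of_comp g j
  exact ⟨MorphismProperty.Over.mk ⊤ g inferInstance,
    ⟨MorphismProperty.Over.isoMk (Iso.refl _) (by simp [hg])⟩⟩

/-- The counit of left Kan extension along `compEtale j` versus restriction. -/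
abbrev κ (P : X.Etaleᵒᵖ ⥤ AddCommGrpCat.{u + 1}) :
    (compEtale j).op.lan.obj ((compEtale j).op ⋙ P) ⟶ P :=
  ((compEtale j).op.lanAdjunction AddCommGrpCat.{u + 1}).counit.app P

theorem isZero_lan_app (P : U.Etaleᵒᵖ ⥤ AddCommGrpCat.{u + 1}) (W : X.Etale) (h : ¬ Lands j W) :
    IsZero (((compEtale j).op.lan.obj P).obj (op W)) := by
  haveI : IsEmpty (CostructuredArrow (compEtale j).op (op W)) :=
    ⟨fun Y => h (lands_of_hom j Y.hom.unop (lands_compEtale j Y.left.unop))⟩
  exact (IsZero.iff_id_eq_zero _).2
    (((compEtale j).op.isPointwiseLeftKanExtensionLeftKanExtensionUnit P (op W)).hom_ext isEmptyElim)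

theorem isIso_κ_app (P : X.Etaleᵒᵖ ⥤ AddCommGrpCat.{u + 1}) (W : X.Etale) (h : Lands j W) :
    IsIso ((κ j P).app (op W)) := by
  obtain ⟨V, ⟨e⟩⟩ := exists_iso_of_lands j h
  have h1 : IsIso ((κ j P).app ((compEtale j).op.obj (op V))) :=
    IsIso.of_isIso_fac_left
      ((compEtale j).op.lanUnit_app_app_lanAdjunction_counit_app_app P (op V))
  exact (NatTrans.isIso_app_iff_of_iso (κ j P) e.op.symm).1 h1

instance mono_κ (P : X.Etaleᵒᵖ ⥤ AddCommGrpCat.{u + 1}) : Mono (κ j P) := by
  haveI : ∀ W, Mono ((κ j P).app W) := fun W => by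
    by_cases h : Lands j W.unop
    · haveI := isIso_κ_app j P W.unop h
      infer_instance
    · exact ⟨fun g h' _ => (isZero_lan_app j _ W.unop h).eq_of_tgt g h'⟩
  exact NatTrans.mono_of_mono_app _

instance lan_preservesMonomorphisms :
    ((compEtale j).op.lan : (U.Etaleᵒᵖ ⥤ AddCommGrpCat.{u + 1}) ⥤ _).PreservesMonomorphisms where
  preserves {P Q} f _ := by
    haveI : ∀ W, Mono (((compEtale j).op.lan.map f).app W) := fun W => by
      by_cases h : Lands j W.unop
      · obtain ⟨V, ⟨e⟩⟩ := exists_iso_of_lands j h
        have hn : f.app (op V) ≫ ((compEtale j).op.lanUnit.app Q).app (op V) =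
            ((compEtale j).op.lanUnit.app P).app (op V) ≫
              ((compEtale j).op.lan.map f).app ((compEtale j).op.obj (op V)) :=
          congr_app ((compEtale j).op.lanUnit.naturality f) (op V)
        haveI : Mono (((compEtale j).op.lan.map f).app ((compEtale j).op.obj (op V))) := by
          rw [(IsIso.inv_comp_eq _).2 hn |>.symm]
          infer_instance
        have hW : ((compEtale j).op.lan.map f).app W = ((compEtale j).op.lan.obj P).map e.op.hom ≫
            ((compEtale j).op.lan.map f).app ((compEtale j).op.obj (op V)) ≫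
              ((compEtale j).op.lan.obj Q).map e.op.inv := by
          erw [← ((compEtale j).op.lan.map f).naturality e.op.inv, ← Functor.map_comp_assoc,
            e.op.hom_inv_id, CategoryTheory.Functor.map_id, Category.id_comp]
        rw [hW]
        infer_instance
      · exact ⟨fun g h' _ => (isZero_lan_app j _ W.unop h).eq_of_tgt g h'⟩
    exact NatTrans.mono_of_mono_app _

/-- Extension by zero: the constructed left adjoint. -/
abbrev shriek : EtCoh.Ab U ⥤ EtCoh.Ab X :=
  Functor.sheafPullbackConstruction.sheafPullback (compEtale j) AddCommGrpCat.{u + 1}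
    U.smallEtaleTopology X.smallEtaleTopology

instance : (shriek j).PreservesMonomorphisms where
  preserves f _ := by
    show Mono ((presheafToSheaf _ _).map ((compEtale j).op.lan.map ((sheafToPresheaf _ _).map f)))
    infer_instance

/-- The adjunction with restriction. -/
abbrev shriekRestrAdj : shriek j ⊣ restrAlong j :=
  Functor.sheafPullbackConstruction.sheafAdjunctionContinuous (compEtale j) AddCommGrpCat.{u + 1}
    U.smallEtaleTopology X.smallEtaleTopology

theorem shriekRestrAdj_counit (F : EtCoh.Ab X) :
    (shriekRestrAdj j).counit.app F = (presheafToSheaf _ _).map (κ j F.obj) ≫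
      (sheafificationAdjunction X.smallEtaleTopology AddCommGrpCat.{u + 1}).counit.app F := by
  apply (Functor.FullyFaithful.id _).map_injective
  erw [Adjunction.map_restrictFullyFaithful_counit_app]
  simp
  erw [CategoryTheory.Functor.map_id, CategoryTheory.Functor.map_id, Category.id_comp, Category.id_comp]

/-- Restriction is left adjoint to direct image. -/
def restrPushAdj : restrAlong j ⊣ EtCoh.push j :=
  Adjunction.sheafPushforwardContinuous (F := compEtale j) (G := EtCoh.bc j)
    (MorphismProperty.Over.mapPullbackAdj EtCoh.etaleMP.{u} ⊤ j (inferInstance : Etale j) trivial)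
    U.smallEtaleTopology X.smallEtaleTopology

/-- Inverse image along an open immersion is restriction. -/
def σ : EtCoh.pull j ≅ restrAlong j := (EtCoh.pullPushAdj j).leftAdjointUniq (restrPushAdj j)

/-- `j_! ⊣ j⁻¹`. -/
def shriekAdj : shriek j ⊣ EtCoh.pull j := (shriekRestrAdj j).ofNatIsoRight (σ j).symm

theorem preservesFiniteLimits_pull : PreservesFiniteLimits (EtCoh.pull j) := by
  haveI : PreservesLimitsOfSize.{0, 0} (EtCoh.pull j) := (shriekAdj j).rightAdjoint_preservesLimits
  exact PreservesLimitsOfSize.preservesFiniteLimits _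

/-- The canonical monomorphism `j_! j^* F → F`, in concrete form. -/
def kS (F : EtCoh.Ab X) :
    (presheafToSheaf X.smallEtaleTopology AddCommGrpCat.{u + 1}).obj
      ((compEtale j).op.lan.obj ((compEtale j).op ⋙ F.obj)) ⟶ F :=
  (presheafToSheaf _ _).map (κ j F.obj) ≫
    (sheafificationAdjunction X.smallEtaleTopology AddCommGrpCat.{u + 1}).counit.app F

instance (F : EtCoh.Ab X) : Mono (kS j F) := by
  unfold kS; infer_instance

theorem shriekAdj_homEquiv_symm (A : EtCoh.Ab U) (F : EtCoh.Ab X) (f : A ⟶ (EtCoh.pull j).obj F) :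
    ((shriekAdj j).homEquiv A F).symm f = (shriek j).map (f ≫ (σ j).hom.app F) ≫ kS j F := by
  rw [shriekAdj, Adjunction.homEquiv_counit]
  simp [Adjunction.ofNatIsoRight]
  rw [shriekRestrAdj_counit]
  rfl

end

end Groth.Agent.EtMV
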