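import Groth.Agent.EtMV.OpenFF
import Groth.Agent.EtSite.ClosedImm

/-! The exact sequence of an open subscheme and its closed complement. -/

set_option autoImplicit false
set_option linter.style.haveILetI false
set_option backward.isDefEq.respectTransparency.types false
set_option backward.defeqAttrib.useBackward true

universe u

open CategoryTheory CategoryTheory.Limits AlgebraicGeometry Opposite EtShriek

namespace Groth.Agent.EtMV

noncomputable section

variable {X U : Scheme.{u}} (j : U ⟶ X) [IsOpenImmersion j]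

theorem eq_zero_of_stalks {F G : EtCoh.Ab X} (x : F ⟶ G)
    (h : ∀ (Ω : Type u) [Field Ω] [IsSepClosed Ω] (ξ : Spec (CommRingCat.of Ω) ⟶ X),
      (EtCoh.stalk ξ).map x = 0) : x = 0 := by
  haveI : Epi (kernel.ι x) := EtSite.epi_of_stalks _ fun Ω _ _ ξ => by
    haveI : Epi ((EtCoh.stalk ξ).map (kernel.ι x)) := by
      rw [← kernelComparison_comp_ι x (EtCoh.stalk ξ)]
      haveI : Epi (kernel.ι ((EtCoh.stalk ξ).map x)) :=
        epi_of_epi_fac (kernel.lift_ι ((EtCoh.stalk ξ).map x) (𝟙 _) (by rw [h Ω ξ, comp_zero]))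
      infer_instance
    exact (AddCommGrpCat.epi_iff_surjective _).1 this
  rw [← cancel_epi (kernel.ι x), kernel.condition, comp_zero]

/-- Outside `U` the sheaf `j_!(G|_U)` has zero stalks. -/
theorem isZero_stalk_shriek (G : EtCoh.Ab X) {Ω : Type u} [Field Ω] [IsSepClosed Ω]
    (ξ : Spec (CommRingCat.of Ω) ⟶ X) (hp : ξ.base default ∉ Set.range j.base) :
    IsZero ((EtCoh.stalk ξ).obj ((presheafToSheaf X.smallEtaleTopology AddCommGrpCat.{u + 1}).obj
      ((compEtale j).op.lan.obj ((compEtale j).op ⋙ G.obj)))) := by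
  refine IsZero.of_iso ?_ (((Scheme.pointSmallEtale ξ).presheafToSheafCompSheafFiberIso
    AddCommGrpCat.{u + 1}).app ((compEtale j).op.lan.obj ((compEtale j).op ⋙ G.obj)))
  let P := (compEtale j).op.lan.obj ((compEtale j).op ⋙ G.obj)
  haveI : Subsingleton (ToType ((Scheme.pointSmallEtale ξ).presheafFiber.obj P)) := by
    refine subsingleton_of_forall_eq 0 fun z => ?_
    obtain ⟨V, t, s, rfl⟩ := (Scheme.pointSmallEtale ξ).toPresheafFiber_jointly_surjective z
    have hl : ¬ Lands j V := fun ⟨g, hg⟩ => hp ⟨g.base ((t.left : Spec (CommRingCat.of Ω) ⟶ V.left).base (default : Spec (CommRingCat.of Ω))), by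
      rw [← Scheme.Hom.comp_apply, hg]
      exact (Scheme.Hom.comp_apply _ _ _).symm.trans <| congrArg (fun m : Spec (CommRingCat.of Ω) ⟶ X => m.base default) (Over.w t)⟩
    haveI : Subsingleton (ToType (P.obj (op V))) := AddCommGrpCat.subsingleton_of_isZero (isZero_lan_app j ((compEtale j).op ⋙ G.obj) V hl)
    have hs : s = 0 := Subsingleton.elim _ _
    rw [hs]
    exact map_zero ((Scheme.pointSmallEtale ξ).toPresheafFiber V t P).hom
  exact AddCommGrpCat.isZero_of_subsingleton _

theorem complement_shortExact {Z : Scheme.{u}} (i : Z ⟶ X) [IsClosedImmersion i]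
    (hU : Set.range j.base = (Set.range i.base)ᶜ) (F : EtCoh.Ab X) :
    ∃ w : kS j F ≫ (EtCoh.pullPushAdj i).unit.app F = 0, (ShortComplex.mk _ _ w).ShortExact := by
  have out : ∀ {Ω : Type u} [Field Ω] [IsSepClosed Ω] (ξ : Spec (CommRingCat.of Ω) ⟶ X),
      ξ.base default ∉ Set.range j.base → ∃ ζ : Spec (CommRingCat.of Ω) ⟶ Z, ζ ≫ i = ξ := by
    intro Ω _ _ ξ hp
    have hsub : Set.range ξ.base ⊆ Set.range i.base := by
      rintro _ ⟨p, rfl⟩
      rw [Subsingleton.elim p default]
      simpa [hU] using hp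
    haveI : IsClosedImmersion (pullback.snd i ξ) := inferInstance
    haveI : Surjective (pullback.snd i ξ) := ⟨fun p => by
      obtain ⟨z, hz⟩ := hsub ⟨p, rfl⟩
      obtain ⟨q, -, hq⟩ := Scheme.Pullback.exists_preimage_pullback z p hz
      exact ⟨q, hq⟩⟩
    haveI : IsIso (pullback.snd i ξ) := isIso_of_isClosedImmersion_of_surjective _
    exact ⟨inv (pullback.snd i ξ) ≫ pullback.fst i ξ, by rw [Category.assoc, pullback.condition, IsIso.inv_hom_id_assoc]⟩
  have inZ : ∀ {Ω : Type u} [Field Ω] [IsSepClosed Ω] (ξ : Spec (CommRingCat.of Ω) ⟶ X),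
      ξ.base default ∈ Set.range j.base →
        IsZero ((EtCoh.stalk ξ).obj ((EtCoh.push i).obj ((EtCoh.pull i).obj F))) := fun ξ hp => by
    refine EtSite.isZero_stalk_push_outside i _ ξ (Set.disjoint_left.2 ?_)
    rintro _ ⟨p, rfl⟩
    rw [Subsingleton.elim p default]
    rw [hU] at hp
    exact hp
  have w : kS j F ≫ (EtCoh.pullPushAdj i).unit.app F = 0 := eq_zero_of_stalks _ fun Ω _ _ ξ => by
    by_cases hp : ξ.base default ∈ Set.range j.base
    · exact (inZ ξ hp).eq_of_tgt _ _
    · exact (isZero_stalk_shriek j F ξ hp).eq_of_src _ _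
  refine ⟨w, ?_⟩
  haveI : Epi ((EtCoh.pullPushAdj i).unit.app F) := EtSite.epi_of_stalks _ fun Ω _ _ ξ => by
    by_cases hp : ξ.base default ∈ Set.range j.base
    · intro z
      exact ⟨0, @Subsingleton.elim _ (AddCommGrpCat.subsingleton_of_isZero (inZ ξ hp)) _ _⟩
    · obtain ⟨ζ, rfl⟩ := out ξ hp
      haveI := EtSite.isIso_stalk_unit i ζ (EtSite.lifts_closedImmersion i ζ) F
      exact ((ConcreteCategory.isIso_iff_bijective _).1 this).2
  refine { exact := (EtSite.exact_iff_stalks _).2 fun Ω _ _ ξ => ?_ }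
  by_cases hp : ξ.base default ∈ Set.range j.base
  · rw [ShortComplex.exact_iff_epi _ ((inZ ξ hp).eq_of_tgt _ _)]
    exact (AddCommGrpCat.epi_iff_surjective _).2 (stalk_kS_surjective j F ξ hp)
  · rw [ShortComplex.exact_iff_mono _ ((isZero_stalk_shriek j F ξ hp).eq_of_src _ _)]
    obtain ⟨ζ, rfl⟩ := out ξ hp
    haveI := EtSite.isIso_stalk_unit i ζ (EtSite.lifts_closedImmersion i ζ) F
    show Mono ((EtCoh.stalk (ζ ≫ i)).map ((EtCoh.pullPushAdj i).unit.app F))
    infer_instance

end

end Groth.Agent.EtMV
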