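import Groth.Agent.EtMV.LanExact
import Groth.Agent.EtSite.PullStalk
import Groth.Prelude.Def_EtCore
import Mathlib.CategoryTheory.Preadditive.Injective.Preserves

/-! For étale `j`, inverse image is restriction; it preserves injectives. -/

set_option autoImplicit false
set_option linter.style.haveILetI false
set_option backward.isDefEq.respectTransparency.types false
set_option backward.defeqAttrib.useBackward true

universe u

open CategoryTheory CategoryTheory.Limits AlgebraicGeometry Opposite EtShriek

namespace Groth.Agent.EtMV

noncomputable section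

variable {X U : Scheme.{u}} (j : U ⟶ X) [hj : Etale j]

set_option backward.isDefEq.respectTransparency false in
theorem compatiblePreserving_compEtale : CompatiblePreserving X.smallEtaleTopology (compEtale j) where
  compatible {F Z _ x hx Y₁ Y₂ W f₁ f₂ g₁ g₂ hg₁ hg₂ h} := by
    have hW : EtCoh.etaleMP (f₁.left ≫ Y₁.hom) := by
      refine EtCoh.etaleMP.of_postcomp (W' := EtCoh.etaleMP) (f₁.left ≫ Y₁.hom) j hj ?_
      rw [Category.assoc]
      have : f₁.left ≫ Y₁.hom ≫ j = W.hom := MorphismProperty.Over.w f₁
      rw [this]; exact W.prop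
    let W' : U.Etale := MorphismProperty.Over.mk ⊤ (f₁.left ≫ Y₁.hom) hW
    let g₁' : W' ⟶ Y₁ := MorphismProperty.Over.homMk f₁.left rfl
    have hl : f₁.left ≫ g₁.left = f₂.left ≫ g₂.left := congrArg (fun m => m.left) h
    let g₂' : W' ⟶ Y₂ := MorphismProperty.Over.homMk f₂.left (by
      show f₂.left ≫ Y₂.hom = f₁.left ≫ Y₁.hom
      rw [← MorphismProperty.Over.w g₁, ← MorphismProperty.Over.w g₂]
      exact ((reassoc_of% hl) Z.hom).symm)
    let e : (compEtale j).obj W' ≅ W := MorphismProperty.Over.isoMk (Iso.refl _)
      ((Category.id_comp W.hom).trans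
        ((MorphismProperty.Over.w f₁).symm.trans (Category.assoc _ _ _).symm))
    convert congr_arg (F.obj.map e.inv.op)
      (hx g₁' g₂' hg₁ hg₂ (MorphismProperty.Over.Hom.ext hl)) using 1
    · rw [← ConcreteCategory.comp_apply]
      erw [← F.obj.map_comp]
      rfl
    · rw [← ConcreteCategory.comp_apply]
      erw [← F.obj.map_comp]
      rfl

theorem jCont : JCont j :=
  Functor.isContinuous_of_coverPreserving (compatiblePreserving_compEtale j) (coverPreserving_compEtale j)

/-- Restriction is left adjoint to direct image. -/
def restrPushAdjEt [JCont j] : restrAlong j ⊣ EtCoh.push j :=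
  Adjunction.sheafPushforwardContinuous (F := compEtale j) (G := EtCoh.bc j)
    (MorphismProperty.Over.mapPullbackAdj EtCoh.etaleMP.{u} ⊤ j hj trivial)
    U.smallEtaleTopology X.smallEtaleTopology

/-- Inverse image along an étale morphism is restriction. -/
def σEt [JCont j] : EtCoh.pull j ≅ restrAlong j :=
  (EtCoh.pullPushAdj j).leftAdjointUniq (restrPushAdjEt j)

theorem pull_preservesInjectiveObjects : (EtCoh.pull j).PreservesInjectiveObjects := by
  haveI := jCont j
  haveI : PreservesFiniteLimits (extZero j) := extZero_preservesFiniteLimits j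
  exact Functor.preservesInjectiveObjects_of_adjunction_of_preservesMonomorphisms
    ((extZeroAdj j).ofNatIsoRight (σEt j).symm)

theorem injective_push {Y : Scheme.{u}} (f : U ⟶ Y) (I : EtCoh.Ab U) [Injective I] :
    Injective ((EtCoh.push f).obj I) :=
  (EtCoh.pullPushAdj f).map_injective I inferInstance

end

end Groth.Agent.EtMV
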