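import Groth.Agent.EtMV.EtaleRestr
import Groth.Agent.EtMV.ExtAdj
import Mathlib.AlgebraicGeometry.Limits
import Mathlib.Algebra.Category.Grp.Adjunctions

/-! Restriction maps of acyclic sheaves along open immersions are surjective. -/

set_option autoImplicit false
set_option linter.style.haveILetI false
set_option backward.isDefEq.respectTransparency.types false
set_option backward.defeqAttrib.useBackward true

universe u

open CategoryTheory CategoryTheory.Limits AlgebraicGeometry Opposite EtShriek CategoryTheory.Abelian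

namespace Groth.Agent.EtMV

noncomputable section

variable {X : Scheme.{u}}

/-- Sections of an injective sheaf extend along monomorphisms. -/
theorem injective_restrict_surjective (I : EtCoh.Ab X) [Injective I] {U V : X.Etale} (g : V ⟶ U) [Mono g] :
    Function.Surjective (I.obj.map g.op).hom := by
  intro s
  haveI : Injective I.obj :=
    (sheafificationAdjunction X.smallEtaleTopology AddCommGrpCat.{u + 1}).map_injective I inferInstance
  let A := AddCommGrpCat.adj.{u + 1}.whiskerRight X.Etaleᵒᵖ
  let m : uliftYoneda.{u + 1}.obj V ⋙ AddCommGrpCat.free ⟶ uliftYoneda.{u + 1}.obj U ⋙ AddCommGrpCat.free :=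
    Functor.whiskerRight (uliftYoneda.{u + 1}.map g) _
  haveI : Mono m := by
    haveI : ∀ Y, Mono (m.app Y) := fun Y => by
      show Mono (AddCommGrpCat.free.map ((uliftYoneda.{u + 1}.map g).app Y))
      haveI : Mono ((uliftYoneda.{u + 1}.map g).app Y) := by
        rw [mono_iff_injective]
        rintro ⟨a⟩ ⟨b⟩ h
        exact congrArg ULift.up ((cancel_mono g).1 (congrArg ULift.down h))
      infer_instance
    exact NatTrans.mono_of_mono_app _
  let α : uliftYoneda.{u + 1}.obj V ⟶ I.obj ⋙ forget AddCommGrpCat := uliftYonedaEquiv.symm s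
  let β := (A.homEquiv (uliftYoneda.{u + 1}.obj V) I.obj).symm α
  let γ := Injective.factorThru β m
  refine ⟨uliftYonedaEquiv (A.homEquiv _ _ γ), ?_⟩
  show (I.obj ⋙ forget AddCommGrpCat).map g.op (uliftYonedaEquiv (A.homEquiv _ _ γ)) = s
  rw [uliftYonedaEquiv_naturality (X := op U) (Y := op V)]
  erw [← A.homEquiv_naturality_left]
  erw [Injective.comp_factorThru β m, Equiv.apply_symm_apply, Equiv.apply_symm_apply]

/-- The top object of the site of `W`, seen over `X`, is `W`. -/
def topMapIso (W : X.Etale) [Etale W.hom] : (compEtale W.hom).obj (EtCoh.top W.left) ≅ W :=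
  MorphismProperty.Over.isoMk (Iso.refl _) ((Category.id_comp W.hom).trans (Category.id_comp W.hom).symm)

/-- Sections over `W` of a surjection lift when `H¹(W, kernel) = 0`. -/
theorem sections_surjective {S : ShortComplex (EtCoh.Ab X)} (hS : S.ShortExact) (W : X.Etale)
    [Subsingleton (EtCoh.H W.left ((EtCoh.pull W.hom).obj S.X₁) 1)] :
    Function.Surjective (S.g.hom.app (op W)).hom := by
  haveI : Etale W.hom := W.prop
  haveI := jCont W.hom
  haveI : (EtCoh.pull W.hom).Additive := EtSite.pull_additive W.hom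
  have hT : (S.map (EtCoh.pull W.hom)).ShortExact := hS.map_of_exact _
  intro q
  let e := (topMapIso W).op
  let q₀ := ((σEt W.hom).inv.app S.X₃).hom.app (op (EtCoh.top W.left)) (S.X₃.obj.map e.hom q)
  let φ : EtCoh.const W.left ℤ ⟶ (EtCoh.pull W.hom).obj S.X₃ :=
    ((EtCore.constAdj W.left).homEquiv _ _).symm
      (AddCommGrpCat.ofHom (((zmultiplesHom _) q₀).comp AddEquiv.ulift.toAddMonoidHom))
  obtain ⟨ψ, hψ⟩ : ∃ ψ, ψ ≫ (EtCoh.pull W.hom).map S.g = φ := by
    obtain ⟨x₂, hx₂⟩ := Ext.covariant_sequence_exact₃ (EtCoh.const W.left ℤ) hT (Ext.mk₀ φ) (zero_add 1)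
      (Subsingleton.elim (α := EtCoh.H W.left ((EtCoh.pull W.hom).obj S.X₁) 1) _ _)
    obtain ⟨ψ, rfl⟩ := (Ext.mk₀_bijective _ _).2 x₂
    exact ⟨ψ, (Ext.mk₀_bijective _ _).1 ((Ext.mk₀_comp_mk₀ _ _).symm.trans hx₂)⟩
  let p := ((EtCore.constAdj W.left).homEquiv _ _ ψ).hom (ULift.up 1)
  refine ⟨S.X₂.obj.map e.inv (((σEt W.hom).hom.app S.X₂).hom.app (op (EtCoh.top W.left)) p), ?_⟩
  have hp : ((EtCoh.pull W.hom).map S.g).hom.app (op (EtCoh.top W.left)) p = q₀ := by
    have := congrArg (fun m => ((EtCore.constAdj W.left).homEquiv _ _ m).hom (ULift.up 1)) hψ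
    simp only [Adjunction.homEquiv_naturality_right, φ, Equiv.apply_symm_apply] at this
    refine this.trans ?_
    show (1 : ℤ) • q₀ = q₀
    exact one_zsmul q₀
  erw [NatTrans.naturality_apply S.g.hom e.inv]
  have hn := congr_app (congrArg (fun m => m.hom) ((σEt W.hom).hom.naturality S.g)) (op (EtCoh.top W.left))
  have hn' := ConcreteCategory.congr_hom hn p
  erw [ConcreteCategory.comp_apply, ConcreteCategory.comp_apply] at hn'
  erw [← hn', hp]
  have hi := ConcreteCategory.congr_hom (congr_app (congrArg (fun m => m.hom)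
    ((σEt W.hom).inv_hom_id_app S.X₃)) (op (EtCoh.top W.left))) (S.X₃.obj.map e.hom q)
  erw [ConcreteCategory.comp_apply] at hi
  erw [hi]
  show S.X₃.obj.map e.inv (S.X₃.obj.map e.hom q) = q
  rw [← Functor.map_comp_apply, e.hom_inv_id, S.X₃.obj.map_id]
  rfl

/-- A cover by two open pieces: glue two copies of `U` along `V`. -/
theorem exists_double {U V : X.Etale} (g : V ⟶ U) [IsOpenImmersion g.left] :
    ∃ (W : X.Etale) (i₁ i₂ : U ⟶ W), g ≫ i₁ = g ≫ i₂ ∧ IsOpenImmersion i₁.left ∧ IsOpenImmersion i₂.left ∧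
      Sieve.ofArrows (fun _ : Bool => U) (fun b : Bool => if b then i₁ else i₂) ∈ X.smallEtaleTopology W ∧
      ∀ ⦃Z : X.Etale⦄ (a b : Z ⟶ U), a ≫ i₁ = b ≫ i₂ → ∃ c : Z ⟶ V, c ≫ g = a ∧ c ≫ g = b := by
  haveI : Etale U.hom := U.prop
  let F := span g.left g.left
  let T := colimit F
  let k₁ : U.left ⟶ T := colimit.ι F WalkingSpan.left
  let k₂ : U.left ⟶ T := colimit.ι F WalkingSpan.right
  have hk : g.left ≫ k₁ = g.left ≫ k₂ := pushout.condition
  let d : T ⟶ X := pushout.desc U.hom U.hom rfl
  have hd₁ : k₁ ≫ d = U.hom := pushout.inl_desc _ _ _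
  have hd₂ : k₂ ≫ d = U.hom := pushout.inr_desc _ _ _
  have hd : Etale d := IsZariskiLocalAtSource.of_openCover (P := @Etale)
    (Scheme.IsLocallyDirected.openCover F) fun i => by
      rcases i with _ | _ | _
      · show Etale (colimit.ι F WalkingSpan.zero ≫ d)
        rw [← colimit.w F WalkingSpan.Hom.fst, Category.assoc]
        show Etale (g.left ≫ k₁ ≫ d)
        rw [hd₁]
        infer_instance
      · show Etale (k₁ ≫ d)
        rw [hd₁]; infer_instance
      · show Etale (k₂ ≫ d)
        rw [hd₂]; infer_instance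
  let W : X.Etale := MorphismProperty.Over.mk ⊤ d hd
  let i₁ : U ⟶ W := MorphismProperty.Over.homMk k₁ hd₁
  let i₂ : U ⟶ W := MorphismProperty.Over.homMk k₂ hd₂
  haveI : IsOpenImmersion k₁ := inferInstanceAs (IsOpenImmersion (colimit.ι F _))
  haveI : IsOpenImmersion k₂ := inferInstanceAs (IsOpenImmersion (colimit.ι F _))
  refine ⟨W, i₁, i₂, MorphismProperty.Over.Hom.ext hk, ‹_›, ‹_›, ?_, fun Z a b hab => ?_⟩
  · have eX : X.smallEtaleTopology =
        (X.smallPretopology (P := EtCoh.etaleMP) (Q := EtCoh.etaleMP)).toGrothendieck :=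
      Scheme.smallGrothendieckTopology_eq_toGrothendieck_smallPretopology X le_rfl
    rw [eX]
    refine (Scheme.mem_toGrothendieck_smallPretopology W _).2 fun x => ?_
    obtain ⟨i, xi, hxi⟩ := Scheme.IsLocallyDirected.ι_jointly_surjective F x
    have aux : ∀ (i' : U ⟶ W) (y : U.left), Sieve.ofArrows (fun _ : Bool => U) (fun b : Bool => if b then i₁ else i₂) i' →
        IsOpenImmersion i'.left → i'.left.base y = x →
        ∃ (Y : X.Etale) (f : Y ⟶ W) (y : Y.left),
          Sieve.ofArrows (fun _ : Bool => U) (fun b : Bool => if b then i₁ else i₂) f ∧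
            EtCoh.etaleMP f.left ∧ f.left.base y = x := fun i' y h _ hy =>
      ⟨U, i', y, h, (inferInstance : Etale i'.left), hy⟩
    rcases i with _ | _ | _
    · refine aux i₁ (g.left.base xi) (Sieve.ofArrows_mk _ _ true) ‹_› ?_
      rw [← hxi, ← colimit.w F WalkingSpan.Hom.fst]
      rfl
    · exact aux i₁ xi (Sieve.ofArrows_mk _ _ true) ‹_› hxi
    · exact aux i₂ xi (Sieve.ofArrows_mk _ _ false) ‹_› hxi
  · have hl : a.left ≫ k₁ = b.left ≫ k₂ := congrArg (fun m => m.left) hab
    have hr : ∀ z, a.left.base z ∈ Set.range g.left.base := fun z => by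
      have h : colimit.ι F WalkingSpan.left (a.left.base z) = colimit.ι F WalkingSpan.right (b.left.base z) :=
        congrArg (fun m : Z.left ⟶ T => m.base z) hl
      obtain ⟨k, fi, fj, y, hy, -⟩ := (Scheme.IsLocallyDirected.ι_eq_ι_iff F).1 h
      rcases k with _ | _ | _
      · obtain rfl : fi = WalkingSpan.Hom.fst := Subsingleton.elim _ _
        exact ⟨y, hy⟩
      · cases fj
      · cases fi
    let c : Z.left ⟶ V.left := IsOpenImmersion.lift g.left a.left (by rintro _ ⟨z, rfl⟩; exact hr z)
    have hc : c ≫ g.left = a.left := IsOpenImmersion.lift_fac _ _ _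
    let c' : Z ⟶ V := MorphismProperty.Over.homMk c (by
      have h1 : g.left ≫ U.hom = V.hom := MorphismProperty.Over.w g
      rw [← h1, ← Category.assoc, hc]
      exact MorphismProperty.Over.w a)
    have ha : c' ≫ g = a := MorphismProperty.Over.Hom.ext hc
    refine ⟨c', ha, ?_⟩
    haveI : Mono k₂ := inferInstance
    apply MorphismProperty.Over.Hom.ext
    show c ≫ g.left = b.left
    rw [← cancel_mono k₂, ← hl, ← hc, Category.assoc, Category.assoc, hk]

/-- An acyclic sheaf has surjective restrictions along open immersions. -/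
theorem restrict_surjective (F : EtCoh.Ab X)
    (hF : ∀ W : X.Etale, Subsingleton (EtCoh.H W.left ((EtCoh.pull W.hom).obj F) 1))
    {U V : X.Etale} (g : V ⟶ U) [IsOpenImmersion g.left] : Function.Surjective (F.obj.map g.op).hom := by
  let I : InjectivePresentation F := Classical.arbitrary _
  let S := ShortComplex.mk _ _ (cokernel.condition I.f)
  have hS : S.ShortExact := { exact := ShortComplex.exact_cokernel I.f }
  haveI : Injective S.X₂ := I.injective
  haveI : Mono g := ⟨fun a b h => MorphismProperty.Over.Hom.ext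
    ((cancel_mono g.left).1 (congrArg (fun m => m.left) h))⟩
  intro s
  obtain ⟨t, ht⟩ := injective_restrict_surjective S.X₂ g (S.f.hom.app (op V) s)
  have hgf : ∀ (E : X.Etale) (z : F.obj.obj (op E)), S.g.hom.app (op E) (S.f.hom.app (op E) z) = 0 := fun E z =>
    (ConcreteCategory.comp_apply _ _ _).symm.trans
      (ConcreteCategory.congr_hom (congr_app (congrArg (fun m => m.hom) S.zero) (op E)) z)
  have hker : ∀ (E : X.Etale) (z : S.X₂.obj.obj (op E)), S.g.hom.app (op E) z = 0 →
      ∃ y, S.f.hom.app (op E) y = z := fun E z hz => by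
    haveI := hS.mono_f
    exact (ShortComplex.ab_exact_iff _).1 ((hS.exact.map_of_mono_of_preservesKernel
      (sheafToPresheaf _ _ ⋙ (evaluation _ _).obj (op E)) inferInstance inferInstance)) z hz
  obtain ⟨W, i₁, i₂, hi, h₁, h₂, hcov, hsep⟩ := exists_double g
  haveI := h₁
  haveI := h₂
  let qs : Bool → S.X₃.obj.obj (op U) := fun b => if b then S.g.hom.app (op U) t else 0
  have hsh := S.X₃.property
  obtain ⟨w, hw⟩ : ∃ w : S.X₃.obj.obj (op W), ∀ b : Bool,
      S.X₃.obj.map (if b then i₁ else i₂).op w = qs b := by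
    have hsh' := (Presieve.isSheafFor_iff_generate _).2 (((isSheaf_iff_isSheaf_of_type _ _).1
      ((Presheaf.isSheaf_iff_isSheaf_forget _ _ (forget AddCommGrpCat)).1 hsh)) _ hcov)
    rw [Presieve.isSheafFor_arrows_iff] at hsh'
    have hv : S.X₃.obj.map g.op (S.g.hom.app (op U) t) = 0 := by
      rw [← NatTrans.naturality_apply S.g.hom g.op t]
      exact (congrArg _ ht).trans (hgf V s)
    have hcompat : Presieve.Arrows.Compatible (S.X₃.obj ⋙ forget AddCommGrpCat)
        (fun b : Bool => if b then i₁ else i₂) qs := by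
      intro b b' Z a a' haa
      show S.X₃.obj.map a.op (qs b) = S.X₃.obj.map a'.op (qs b')
      cases b <;> cases b'
      · simp [qs]
      · obtain ⟨c, hc, hc'⟩ := hsep a' a (by simpa using haa.symm)
        simp only [qs, Bool.false_eq_true, ↓reduceIte, map_zero]
        rw [← hc, op_comp, Functor.map_comp_apply, hv, map_zero]
      · obtain ⟨c, hc, hc'⟩ := hsep a a' (by simpa using haa)
        simp only [qs, Bool.false_eq_true, ↓reduceIte, map_zero]
        rw [← hc, op_comp, Functor.map_comp_apply, hv, map_zero]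
      · have : a = a' := by
          apply MorphismProperty.Over.Hom.ext
          exact (cancel_mono i₁.left).1 (congrArg (fun m : Z ⟶ W => m.left) (by simpa using haa : a ≫ i₁ = a' ≫ i₁))
        rw [this]
    obtain ⟨w, hw, -⟩ := hsh' qs hcompat
    exact ⟨w, hw⟩
  haveI := hF W
  obtain ⟨u, hu⟩ := sections_surjective hS W w
  obtain ⟨y₂, hy₂⟩ := hker U (S.X₂.obj.map i₂.op u) (by
    rw [NatTrans.naturality_apply S.g.hom i₂.op u, hu]
    simpa [qs] using hw false)
  obtain ⟨y₁, hy₁⟩ := hker U (S.X₂.obj.map i₁.op u - t) (by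
    rw [map_sub, NatTrans.naturality_apply S.g.hom i₁.op u, hu, sub_eq_zero]
    simpa [qs] using hw true)
  refine ⟨y₂ - y₁, ?_⟩
  have hm : Function.Injective (S.f.hom.app (op V)).hom := by
    haveI := hS.mono_f
    exact (AddCommGrpCat.mono_iff_injective _).1
      (inferInstanceAs (Mono ((sheafToPresheaf _ _ ⋙ (evaluation _ _).obj (op V)).map S.f)))
  apply hm
  show S.f.hom.app (op V) (F.obj.map g.op (y₂ - y₁)) = S.f.hom.app (op V) s
  rw [NatTrans.naturality_apply S.f.hom g.op, map_sub, hy₁, hy₂, map_sub, map_sub,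
    ← Functor.map_comp_apply, ← Functor.map_comp_apply, ← op_comp, ← op_comp, hi, ht]
  abel

end

end Groth.Agent.EtMV
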