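import Groth.Prelude.Def_EtShriek2
import Mathlib.CategoryTheory.Abelian.GrothendieckAxioms.Colim
import Mathlib.CategoryTheory.Abelian.GrothendieckAxioms.Basic
import Mathlib.CategoryTheory.Limits.Final
import Mathlib.Algebra.Category.Grp.AB
import Mathlib.Algebra.Homology.ShortComplex.ExactFunctor
import Mathlib.CategoryTheory.Functor.KanExtension.Adjunction
import Mathlib.CategoryTheory.Sites.Pullback

/-! Extension by zero along any étale morphism preserves monomorphisms. -/

set_option autoImplicit false
set_option linter.style.haveILetI false
set_option backward.isDefEq.respectTransparency.types false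
set_option backward.defeqAttrib.useBackward true

universe u

open CategoryTheory CategoryTheory.Limits AlgebraicGeometry Opposite EtShriek

namespace Groth.Agent.EtMV

noncomputable section

variable {X U : Scheme.{u}} (j : U ⟶ X) [hj : Etale j]

/-- The factorisations of `W → X` through `j`. -/
abbrev Fac (W : X.Etale) : Type (u + 1) := ULift.{u + 1} {φ : W.left ⟶ U // φ ≫ j = W.hom}

/-- The étale `U`-scheme of a factorisation. -/
def facObj {W : X.Etale} (φ : Fac j W) : U.Etale :=
  MorphismProperty.Over.mk ⊤ φ.down.1
    (by
      show Etale φ.down.1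
      haveI : Etale (φ.down.1 ≫ j) := by rw [φ.down.2]; exact W.prop
      exact Etale.of_comp φ.down.1 j)

/-- The discrete category of factorisations inside the indexing category of the Kan extension. -/
def facFunctor (W : X.Etale) : Discrete (Fac j W) ⥤ CostructuredArrow (compEtale j).op (op W) :=
  Discrete.functor fun φ => CostructuredArrow.mk (Y := op (facObj j φ))
    ((MorphismProperty.Over.homMk (A := W) (B := (compEtale j).obj (facObj j φ)) (𝟙 _)
      (by simp [facObj, φ.down.2])).op)

theorem facFunctor_final (W : X.Etale) : (facFunctor j W).Final := by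
  refine ⟨fun k => ?_⟩
  let g : W ⟶ (compEtale j).obj k.left.unop := k.hom.unop
  let φ : Fac j W := ⟨⟨g.left ≫ k.left.unop.hom, by
    rw [Category.assoc]; exact MorphismProperty.Over.w g⟩⟩
  have key : ∀ (s : StructuredArrow k (facFunctor j W)),
      s.hom.left.unop.left = g.left ∧ s.right.as = φ := by
    intro s
    have h1 := congrArg Quiver.Hom.unop (CostructuredArrow.w s.hom)
    have h2 : s.hom.left.unop.left = g.left := by
      have := congrArg (fun m => m.left) h1
      exact (Category.id_comp _).symm.trans this
    refine ⟨h2, ULift.ext _ _ (Subtype.ext ?_)⟩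
    show s.right.as.down.1 = g.left ≫ k.left.unop.hom
    rw [← h2]
    exact (MorphismProperty.Over.w s.hom.left.unop).symm
  haveI : Nonempty (StructuredArrow k (facFunctor j W)) := ⟨StructuredArrow.mk (Y := ⟨φ⟩)
    (CostructuredArrow.homMk (Quiver.Hom.op (MorphismProperty.Over.homMk (A := facObj j φ)
      (B := k.left.unop) g.left (by rfl))) (by
        apply Quiver.Hom.unop_inj
        apply MorphismProperty.Over.Hom.ext
        simp [facFunctor, g]
        exact Category.id_comp _))⟩
  refine zigzag_isConnected fun s t => ?_
  obtain ⟨hs, hs'⟩ := key s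
  obtain ⟨ht, ht'⟩ := key t
  have hst : s = t := by
    obtain ⟨⟨⟨⟩⟩, ⟨a⟩, f⟩ := s
    obtain ⟨⟨⟨⟩⟩, ⟨b⟩, f'⟩ := t
    obtain rfl : a = b := hs'.trans ht'.symm
    congr 1
    apply CostructuredArrow.hom_ext
    apply Quiver.Hom.unop_inj
    exact MorphismProperty.Over.Hom.ext (hs.trans ht.symm)
  rw [hst]

instance lan_preservesMonomorphisms_etale :
    ((compEtale j).op.lan : (U.Etaleᵒᵖ ⥤ AddCommGrpCat.{u + 1}) ⥤ _).PreservesMonomorphisms where
  preserves {P Q} f _ := by
    haveI : ∀ W, Mono (((compEtale j).op.lan.map f).app W) := fun ⟨W⟩ => by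
      haveI := facFunctor_final j W
      have hP := (compEtale j).op.isPointwiseLeftKanExtensionLeftKanExtensionUnit P (op W)
      have hQ := (compEtale j).op.isPointwiseLeftKanExtensionLeftKanExtensionUnit Q (op W)
      haveI : Mono (Functor.whiskerLeft (facFunctor j W ⋙ CostructuredArrow.proj _ _) f) := by
        haveI : ∀ x, Mono ((Functor.whiskerLeft (facFunctor j W ⋙ CostructuredArrow.proj _ _) f).app x) :=
          fun x => by rw [Functor.whiskerLeft_app]; infer_instance
        exact NatTrans.mono_of_mono_app _
      refine colim.map_mono' (Functor.whiskerLeft (facFunctor j W ⋙ CostructuredArrow.proj _ _) f)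
        ((Functor.Final.isColimitWhiskerEquiv (facFunctor j W) _).symm hP)
        ((Functor.Final.isColimitWhiskerEquiv (facFunctor j W) _).symm hQ) _ fun x => ?_
      have hn := congr_app ((compEtale j).op.lanUnit.naturality f) ((facFunctor j W).obj x).left
      have hn2 := ((compEtale j).op.lan.map f).naturality ((facFunctor j W).obj x).hom
      show (((compEtale j).op.lanUnit.app P).app _ ≫ _) ≫ _ = f.app _ ≫ _ ≫ _
      erw [Category.assoc, hn2]
      exact (Category.assoc _ _ _).symm.trans
        (congrArg (· ≫ ((compEtale j).op.lan.obj Q).map ((facFunctor j W).obj x).hom) hn.symm)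
    exact NatTrans.mono_of_mono_app _

instance constructedShriek_preservesMonomorphisms [JCont j] :
    (Functor.sheafPullbackConstruction.sheafPullback (compEtale j) AddCommGrpCat.{u + 1}
      U.smallEtaleTopology X.smallEtaleTopology).PreservesMonomorphisms where
  preserves f _ := by
    show Mono ((presheafToSheaf _ _).map ((compEtale j).op.lan.map ((sheafToPresheaf _ _).map f)))
    infer_instance

theorem extZero_preservesFiniteLimits [JCont j] : PreservesFiniteLimits (extZero j) := by
  haveI : (extZero j).PreservesMonomorphisms :=
    Functor.PreservesMonomorphisms.of_iso (Functor.sheafPullbackConstruction.sheafPullbackIso (compEtale j)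
      AddCommGrpCat.{u + 1} U.smallEtaleTopology X.smallEtaleTopology).symm
  haveI : PreservesColimitsOfSize.{0, 0} (extZero j) := (extZeroAdj j).leftAdjoint_preservesColimits
  haveI : PreservesFiniteColimits (extZero j) := PreservesColimitsOfSize.preservesFiniteColimits _
  haveI : (extZero j).Additive :=
    have : PreservesBinaryBiproducts (extZero j) := preservesBinaryBiproducts_of_preservesBinaryCoproducts _
    Functor.additive_of_preservesBinaryBiproducts _
  rw [Functor.preservesFiniteLimits_iff_forall_exact_map_and_mono]
  intro S hS
  haveI := hS.mono_f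
  haveI := hS.epi_g
  exact ⟨((Functor.preservesFiniteColimits_iff_forall_exact_map_and_epi _).1 inferInstance S hS).1, inferInstance⟩

end

end Groth.Agent.EtMV
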