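import Groth.Agent.EtMV.OpenShriek
import Groth.Agent.EtSite.Points
import Mathlib.CategoryTheory.Adjunction.Triple
import Mathlib.CategoryTheory.Adjunction.FullyFaithful

/-! Open immersions: full faithfulness of `j_!` and `j_*`, recognition of `j_!F`. -/

set_option autoImplicit false
set_option linter.style.haveILetI false
set_option backward.isDefEq.respectTransparency.types false
set_option backward.defeqAttrib.useBackward true

universe u

open CategoryTheory CategoryTheory.Limits AlgebraicGeometry Opposite EtShriek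

namespace Groth.Agent.EtMV

noncomputable section

variable {X U : Scheme.{u}} (j : U ⟶ X) [IsOpenImmersion j]

theorem isIso_restrPushAdj_counit : IsIso (restrPushAdj j).counit := by
  let A : compEtale j ⊣ EtCoh.bc j :=
    MorphismProperty.Over.mapPullbackAdj EtCoh.etaleMP.{u} ⊤ j (inferInstance : Etale j) trivial
  haveI hu : IsIso A.unit := inferInstance
  haveI : ∀ G, IsIso ((restrPushAdj j).counit.app G) := fun G => by
    have h : IsIso ((A.op.whiskerLeft AddCommGrpCat.{u + 1}).counit.app G.obj) := by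
      haveI : ∀ V, IsIso (((A.op.whiskerLeft AddCommGrpCat.{u + 1}).counit.app G.obj).app V) := fun V => by
        simp [Adjunction.whiskerLeft]
        infer_instance
      exact NatIso.isIso_of_isIso_app _
    haveI : IsIso ((sheafToPresheaf _ _).map ((restrPushAdj j).counit.app G)) := h
    exact isIso_of_reflects_iso _ (sheafToPresheaf _ _)
  exact NatIso.isIso_of_isIso_app _

theorem isIso_pullPushAdj_counit : IsIso (EtCoh.pullPushAdj j).counit := by
  haveI := isIso_restrPushAdj_counit j
  haveI := (restrPushAdj j).fullyFaithfulROfIsIsoCounit.full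
  haveI := (restrPushAdj j).fullyFaithfulROfIsIsoCounit.faithful
  infer_instance

theorem isIso_extZeroAdj_unit : IsIso (extZeroAdj j).unit := by
  let t : Adjunction.Triple (extZero j) (restrAlong j) (EtCoh.push j) := ⟨extZeroAdj j, restrPushAdj j⟩
  exact t.isIso_unit_iff_isIso_counit.2 (isIso_restrPushAdj_counit j)

theorem exists_lands_nbhd {Ω : Type u} [Field Ω] [IsSepClosed Ω]
    (ξ : Spec (CommRingCat.of Ω) ⟶ X) (hp : ξ.base default ∈ Set.range j.base) (T : Scheme.{u}) (f : T ⟶ X)
    (hf : Etale f) (l : Spec (CommRingCat.of Ω) ⟶ T) (hl : l ≫ f = ξ) :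
    ∃ (W' : X.Etale) (g : W' ⟶ MorphismProperty.Over.mk ⊤ f hf) (w' : (Scheme.pointSmallEtale ξ).fiber.obj W'),
      (Scheme.pointSmallEtale ξ).fiber.map g w' = Over.homMk l hl ∧ Lands j W' := by
  let O : T.Opens := f ⁻¹ᵁ j.opensRange
  have hO : Set.range l.base ⊆ Set.range O.ι.base := by
    rintro _ ⟨p, rfl⟩
    rw [Scheme.Opens.range_ι]
    show f.base (l.base p) ∈ Set.range j.base
    rw [Subsingleton.elim p default, ← Scheme.Hom.comp_apply, hl]
    exact hp
  haveI := hf
  let m := IsOpenImmersion.lift O.ι l hO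
  have hm : m ≫ O.ι = l := IsOpenImmersion.lift_fac O.ι l hO
  have hm' : m ≫ O.ι ≫ f = ξ := by rw [← Category.assoc, hm, hl]
  have hE : Etale (O.ι ≫ f) := inferInstance
  let W' : X.Etale := MorphismProperty.Over.mk ⊤ (O.ι ≫ f) hE
  let g : W' ⟶ MorphismProperty.Over.mk ⊤ f hf := MorphismProperty.Over.homMk O.ι rfl
  refine ⟨W', g, Over.homMk m hm', ?_, ?_⟩
  · exact Over.OverMorphism.ext hm
  have hr : Set.range (O.ι ≫ f).base ⊆ Set.range j.base := by
    rintro _ ⟨o, rfl⟩
    exact o.2
  exact ⟨IsOpenImmersion.lift j _ hr, IsOpenImmersion.lift_fac j _ hr⟩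

/-- `j_!(G|_U) → G` is surjective on stalks at points of `U`. -/
theorem stalk_kS_surjective (G : EtCoh.Ab X) {Ω : Type u} [Field Ω] [IsSepClosed Ω]
    (ξ : Spec (CommRingCat.of Ω) ⟶ X) (hp : ξ.base default ∈ Set.range j.base) :
    Function.Surjective ((EtCoh.stalk ξ).map (kS j G)) := by
  intro z
  let Φ := Scheme.pointSmallEtale ξ
  obtain ⟨W, w, s, rfl⟩ := Φ.toPresheafFiber_jointly_surjective z
  obtain ⟨W', g, w', hgw, hl⟩ := exists_lands_nbhd j ξ hp W.left W.hom W.prop w.left (Over.w w)
  haveI := isIso_κ_app j G.obj W' hl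
  have hk : (CategoryTheory.toSheafify X.smallEtaleTopology _).app (op W') ≫ (kS j G).hom.app (op W') =
      (κ j G.obj).app (op W') := by
    have := congr_app ((sheafificationAdjunction X.smallEtaleTopology AddCommGrpCat.{u + 1}).homEquiv _ _
      |>.apply_symm_apply (κ j G.obj)) (op W')
    rw [Adjunction.homEquiv_unit, Adjunction.homEquiv_counit] at this
    exact this
  let s' := G.obj.map g.op s
  let pre := ((CategoryTheory.toSheafify X.smallEtaleTopology
    ((compEtale j).op.lan.obj ((compEtale j).op ⋙ G.obj))).app (op W')).hom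
    ((inv ((κ j G.obj).app (op W'))).hom s')
  let Q := (presheafToSheaf X.smallEtaleTopology AddCommGrpCat.{u + 1}).obj
    ((compEtale j).op.lan.obj ((compEtale j).op ⋙ G.obj))
  refine ⟨(Φ.toPresheafFiber W' w' Q.obj).hom pre, ?_⟩
  erw [Φ.toPresheafFiber_naturality_apply]
  have hpre : ((kS j G).hom.app (op W')).hom pre = s' := by
    simp only [pre]
    rw [← ConcreteCategory.comp_apply, hk, ← ConcreteCategory.comp_apply, IsIso.inv_hom_id]
    rfl
  erw [hpre, Φ.toPresheafFiber_w_apply, hgw]
  rfl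

theorem isIso_kS_of_stalks (G : EtCoh.Ab X)
    (hzero : ∀ (Ω : Type u) [Field Ω] [IsSepClosed Ω] (ξ : Spec (CommRingCat.of Ω) ⟶ X),
      Set.range ξ.base ⊆ (Set.range j.base)ᶜ → IsZero ((EtCoh.stalk ξ).obj G)) : IsIso (kS j G) := by
  haveI : Epi (kS j G) := EtSite.epi_of_stalks _ fun Ω _ _ ξ => by
    by_cases hξ : Set.range ξ.base ⊆ (Set.range j.base)ᶜ
    · intro z
      exact ⟨0, @Subsingleton.elim _ (AddCommGrpCat.subsingleton_of_isZero (hzero Ω ξ hξ)) _ _⟩
    · have hp : ξ.base default ∈ Set.range j.base := by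
        by_contra h
        exact hξ (by rintro _ ⟨p, rfl⟩; rwa [Subsingleton.elim p default])
      exact stalk_kS_surjective j G ξ hp
  exact isIso_of_mono_of_epi _

theorem nonempty_iso_extZero (F : EtCoh.Ab U) (G : EtCoh.Ab X) (e : (restrAlong j).obj G ≅ F)
    (hzero : ∀ (Ω : Type u) [Field Ω] [IsSepClosed Ω] (ξ : Spec (CommRingCat.of Ω) ⟶ X),
      Set.range ξ.base ⊆ (Set.range j.base)ᶜ → IsZero ((EtCoh.stalk ξ).obj G)) :
    Nonempty (G ≅ (extZero j).obj F) := by
  haveI := isIso_kS_of_stalks j G hzero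
  exact ⟨(asIso (kS j G)).symm ≪≫ (shriek j).mapIso e ≪≫
    ((extZeroAdj j).leftAdjointUniq (shriekRestrAdj j)).symm.app F⟩

end

end Groth.Agent.EtMV
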