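import Groth.Agent.EtMV.ExtAdj
import Groth.Agent.TriH.Acyclic

/-! `Ext(A, R F) = Ext(L A, F)` for `L ⊣ R`, `L` exact and `F` acyclic for `R`. -/

set_option autoImplicit false
set_option linter.style.haveILetI false

universe w w' v v' u u'

open CategoryTheory CategoryTheory.Limits CategoryTheory.Abelian Groth.Agent.TriH

namespace Groth.Agent.EtMV

noncomputable section

variable {C : Type u} [Category.{v} C] [Abelian C] [HasExt.{w} C] [EnoughInjectives C]

variable {D : Type u'} [Category.{v'} D] [Abelian D] [HasExt.{w'} D]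

omit [EnoughInjectives C] in
theorem shuffle' {X Q' F' Q F : C} {n : ℕ} (z : Ext X Q' n) (δ' : Ext Q' F' 1) (c : F' ⟶ F) (c' : Q' ⟶ Q)
    (δ : Ext Q F 1) (z' : Ext X F' (n + 1)) (h : z' = z.comp δ' rfl)
    (key : δ'.comp (Ext.mk₀ c) (add_zero 1) = (Ext.mk₀ c').comp δ (zero_add 1)) :
    z'.comp (Ext.mk₀ c) (add_zero (n + 1)) = (z.comp (Ext.mk₀ c') (add_zero n)).comp δ rfl := by
  rw [h, Ext.comp_assoc_of_third_deg_zero, key]
  exact (Ext.comp_assoc_of_second_deg_zero _ _ _ _).symm

variable {L : D ⥤ C} {R : C ⥤ D} [L.Additive] [PreservesFiniteLimits L] [PreservesFiniteColimits L]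
  [R.Additive] (adj : L ⊣ R)

/-- The map `Ext^n A (R F) → Ext^n (L A) F`. -/
def Ψr (A : D) (F : C) (n : ℕ) : Ext A (R.obj F) n →+ Ext (L.obj A) F n :=
  ((Ext.mk₀ (adj.counit.app F)).postcomp (L.obj A) (add_zero n)).comp (L.mapExtAddHom A (R.obj F) n)

omit [EnoughInjectives C] [R.Additive] in
theorem Ψr_apply (A : D) (F : C) (n : ℕ) (x : Ext A (R.obj F) n) :
    Ψr adj A F n x = (x.mapExactFunctor L).comp (Ext.mk₀ (adj.counit.app F)) (add_zero n) := rfl

omit [EnoughInjectives C] [R.Additive] in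
theorem Ψr_mk₀ (A : D) (F : C) (f : A ⟶ R.obj F) :
    Ψr adj A F 0 (Ext.mk₀ f) = Ext.mk₀ ((adj.homEquiv A F).symm f) := by
  rw [Ψr_apply, Ext.mapExactFunctor_mk₀, Ext.mk₀_comp_mk₀, Adjunction.homEquiv_counit]

attribute [local instance] Ext.subsingleton_of_injective in
theorem Ψr_bijective [PreservesFiniteLimits R] (A : D) (F : C)
    (hF : IsAcyclicObj R F) (n : ℕ) : Function.Bijective (Ψr adj A F n) := by
  haveI : R.PreservesInjectiveObjects :=
    Functor.preservesInjectiveObjects_of_adjunction_of_preservesMonomorphisms adj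
  induction n generalizing F with
  | zero =>
    constructor
    · intro x y h
      obtain ⟨f, rfl⟩ := (Ext.mk₀_bijective _ _).2 x
      obtain ⟨g, rfl⟩ := (Ext.mk₀_bijective _ _).2 y
      rw [Ψr_mk₀, Ψr_mk₀] at h
      rw [(adj.homEquiv A F).symm.injective ((Ext.mk₀_bijective _ _).1 h)]
    · intro y
      obtain ⟨g, rfl⟩ := (Ext.mk₀_bijective _ _).2 y
      exact ⟨Ext.mk₀ (adj.homEquiv A F g), by rw [Ψr_mk₀, Equiv.symm_apply_apply]⟩
  | succ n hn =>
    let I : InjectivePresentation F := Classical.arbitrary _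
    let S := ShortComplex.mk _ _ (cokernel.condition I.f)
    haveI : Injective S.X₂ := I.injective
    have hS : S.ShortExact := { exact := ShortComplex.exact_cokernel I.f }
    have hRS : (S.map R).ShortExact := map_shortExact_of_isZero_one R S hS (hF 1 Nat.one_pos)
    haveI : Injective (S.map R).X₂ := Functor.PreservesInjectiveObjects.injective_obj I.injective
    have hQ : IsAcyclicObj R S.X₃ := isAcyclicObj_right R S hS hF (isAcyclicObj_of_injective R S.X₂)
    refine AddMonoidHom.bijective_of_surjective_of_bijective_of_right_exact _ _ _ _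
      (Ψr adj A S.X₂ n) (Ψr adj A S.X₃ n) (Ψr adj A S.X₁ (n + 1)) ?_ ?_
      ((ShortComplex.ab_exact_iff_function_exact _).mp
        (Ext.covariant_sequence_exact₃' A hRS n (n + 1) rfl))
      ((ShortComplex.ab_exact_iff_function_exact _).mp
        (Ext.covariant_sequence_exact₃' (L.obj A) hS n (n + 1) rfl))
      (hn _ (isAcyclicObj_of_injective R S.X₂)).surjective (hn _ hQ)
      (fun x₁ ↦ Ext.covariant_sequence_exact₁ _ hRS x₁ (by subsingleton) rfl)
      (fun y₁ ↦ Ext.covariant_sequence_exact₁ _ hS y₁ (by subsingleton) rfl)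
    · ext x
      show (Ψr adj A S.X₂ n x).comp (Ext.mk₀ S.g) (add_zero n) =
        Ψr adj A S.X₃ n (x.comp (Ext.mk₀ (R.map S.g)) (add_zero n))
      rw [Ψr_apply, Ψr_apply, Ext.mapExactFunctor_comp, Ext.mapExactFunctor_mk₀,
        Ext.comp_assoc_of_third_deg_zero, Ext.comp_assoc_of_third_deg_zero, Ext.mk₀_comp_mk₀,
        Ext.mk₀_comp_mk₀]
      exact congrArg (fun z => (x.mapExactFunctor L).comp (Ext.mk₀ z) (add_zero n))
        (adj.counit.naturality S.g).symm
    · ext x
      let φ : (S.map R).map L ⟶ S :=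
        { τ₁ := adj.counit.app S.X₁
          τ₂ := adj.counit.app S.X₂
          τ₃ := adj.counit.app S.X₃
          comm₁₂ := (adj.counit.naturality S.f).symm
          comm₂₃ := (adj.counit.naturality S.g).symm }
      have key : (hRS.map_of_exact L).extClass.comp (Ext.mk₀ (adj.counit.app S.X₁)) (add_zero 1) =
          (Ext.mk₀ (adj.counit.app S.X₃)).comp hS.extClass (zero_add 1) :=
        ShortComplex.ShortExact.extClass_naturality _ _ φ
      show (Ψr adj A S.X₃ n x).comp hS.extClass rfl =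
        Ψr adj A S.X₁ (n + 1) (x.comp hRS.extClass rfl)
      show ((x.mapExactFunctor L).comp (Ext.mk₀ (adj.counit.app S.X₃)) (add_zero n)).comp hS.extClass rfl =
        ((x.comp hRS.extClass rfl).mapExactFunctor L).comp (Ext.mk₀ (adj.counit.app S.X₁)) (add_zero (n + 1))
      have e2 := mapExactFunctor_comp_extClass (R := L) hRS x (rfl : n + 1 = n + 1)
      exact (shuffle' _ _ _ _ _ _ e2 key).symm

end

end Groth.Agent.EtMV
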